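import Mathlib

/-!
# Elementary abelian 2-subgroups of matrix groups in odd characteristic

Simultaneous diagonalisation and the resulting bounds on the order.
-/

set_option autoImplicit false

namespace CfsgLib.TwoRank

open Matrix

variable {G : Type*} [Group G] {F : Type*} [Field F] {ι : Type*} [Fintype ι] [DecidableEq ι]

/-- An elementary abelian 2-group of matrices has a basis of common eigenvectors. -/
theorem exists_eigenbasis [Finite G] (h2 : (2 : F) ≠ 0) (M : G →* Matrix ι ι F) (A : Subgroup G)
    (hc : IsMulCommutative A) (he : ∀ a ∈ A, a ^ 2 = 1) :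
    ∃ b : Module.Basis ι F (ι → F), ∀ i, ∀ a ∈ A, M a *ᵥ b i = b i ∨ M a *ᵥ b i = -b i := by
  classical
  let P : Set G → Set (ι → F) := fun S => {v | ∀ a ∈ S, M a *ᵥ v = v ∨ M a *ᵥ v = -v}
  have hcomm : ∀ a ∈ A, ∀ c ∈ A, M a * M c = M c * M a := fun a ha c hc' => by
    rw [← map_mul, ← map_mul]
    exact congrArg (fun x : A => M x.1) (hc.is_comm.comm (⟨a, ha⟩ : A) ⟨c, hc'⟩)
  have hspan : ∀ l : List G, (∀ a ∈ l, a ∈ A) → Submodule.span F (P {a | a ∈ l}) = ⊤ := by
    intro l
    induction l with
    | nil =>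
      intro _
      refine top_le_iff.1 fun v _ => Submodule.subset_span ?_
      intro a ha
      simp at ha
    | cons a l ih =>
      intro hl
      rw [← top_le_iff, ← ih fun x hx => hl x (List.mem_cons_of_mem _ hx), Submodule.span_le]
      intro v hv
      have ha : a ∈ A := hl a List.mem_cons_self
      have hinv : M a *ᵥ (M a *ᵥ v) = v := by
        rw [Matrix.mulVec_mulVec, ← map_mul, ← pow_two, he a ha, map_one, Matrix.one_mulVec]
      have h1 : v + M a *ᵥ v ∈ P {x | x ∈ a :: l} := by
        intro x hx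
        rcases List.mem_cons.1 hx with rfl | hx'
        · left; rw [Matrix.mulVec_add, hinv, add_comm]
        · have hxa : M x *ᵥ (M a *ᵥ v) = M a *ᵥ (M x *ᵥ v) := by
            rw [Matrix.mulVec_mulVec, Matrix.mulVec_mulVec, hcomm x (hl x hx) a ha]
          rcases hv x hx' with h | h
          · left; rw [Matrix.mulVec_add, hxa, h]
          · right; rw [Matrix.mulVec_add, hxa, h, Matrix.mulVec_neg, neg_add]
      have h1' : v - M a *ᵥ v ∈ P {x | x ∈ a :: l} := by
        intro x hx
        rcases List.mem_cons.1 hx with rfl | hx'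
        · right; rw [Matrix.mulVec_sub, hinv, neg_sub]
        · have hxa : M x *ᵥ (M a *ᵥ v) = M a *ᵥ (M x *ᵥ v) := by
            rw [Matrix.mulVec_mulVec, Matrix.mulVec_mulVec, hcomm x (hl x hx) a ha]
          rcases hv x hx' with h | h
          · left; rw [Matrix.mulVec_sub, hxa, h]
          · right; rw [Matrix.mulVec_sub, hxa, h, Matrix.mulVec_neg, neg_sub_neg, neg_sub]
      have h3 := Submodule.smul_mem _ (2 : F)⁻¹
        (Submodule.add_mem (Submodule.span F (P {x | x ∈ a :: l})) (Submodule.subset_span h1)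
          (Submodule.subset_span h1'))
      rwa [add_add_sub_cancel, ← two_smul F, inv_smul_smul₀ h2] at h3
  obtain ⟨l, hlA, hl⟩ : ∃ l : List G, (∀ a ∈ l, a ∈ A) ∧
      Submodule.span F (P {a | a ∈ l}) = ⊤ ∧ P {a | a ∈ l} ⊆ P (A : Set G) := by
    have hfin := Set.toFinite (A : Set G)
    have hmem : ∀ a, a ∈ hfin.toFinset.toList ↔ a ∈ A := by simp
    exact ⟨hfin.toFinset.toList, fun a ha => (hmem a).1 ha, hspan _ fun a ha => (hmem a).1 ha,
      fun v hv a ha => hv a ((hmem a).2 ha)⟩
  obtain ⟨s, hs, hspan', hli⟩ := exists_linearIndependent F (P {a | a ∈ l})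
  have htop : Submodule.span F (Set.range ((↑) : s → ι → F)) = ⊤ := by
    rw [Subtype.range_coe, hspan', hl.1]
  let b₀ : Module.Basis s F (ι → F) := Module.Basis.mk hli htop.ge
  have : Fintype s := b₀.fintypeIndexOfRankLtAleph0 (Module.rank_lt_aleph0 F _)
  have hcard : Fintype.card s = Fintype.card ι := by
    rw [← Module.finrank_eq_card_basis b₀, Module.finrank_fintype_fun_eq_card]
  refine ⟨b₀.reindex (Fintype.equivOfCardEq hcard), fun i a ha => ?_⟩
  rw [Module.Basis.reindex_apply, Module.Basis.mk_apply]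
  exact hl.2 (hs ((Fintype.equivOfCardEq hcard).symm i).2) a ha

/-- A matrix acting diagonally on a basis has the product of the signs as determinant. -/
theorem det_eq_prod (X : Matrix ι ι F) (b : Module.Basis ι F (ι → F)) (d : ι → F)
    (h : ∀ i, X *ᵥ b i = d i • b i) : X.det = ∏ i, d i := by
  rw [← LinearMap.det_toLin', ← LinearMap.det_toMatrix b, ← Matrix.det_diagonal]
  congr 1
  ext i j
  rw [LinearMap.toMatrix_apply, Matrix.toLin'_apply, h j, map_smul, Module.Basis.repr_self,
    Matrix.diagonal_apply]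
  rcases eq_or_ne i j with rfl | hne
  · simp
  · rw [Finsupp.smul_single, Finsupp.single_eq_of_ne hne, if_neg hne]

section Classes

open scoped Classical

variable [Finite G] (M : G →* Matrix ι ι F) (A : Subgroup G)
  (b : Module.Basis ι F (ι → F))

/-- The sign pattern of a basis vector. -/
noncomputable def pattern (i : ι) : A → Bool := fun a => decide (M a.1 *ᵥ b i = b i)

variable {M A b}

omit [Finite G] in
theorem mulVec_eq (hb : ∀ i, ∀ a ∈ A, M a *ᵥ b i = b i ∨ M a *ᵥ b i = -b i) (a : A) (i : ι) :
    M a.1 *ᵥ b i = (if pattern M A b i a then (1 : F) else -1) • b i := by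
  unfold pattern
  by_cases h : M a.1 *ᵥ b i = b i
  · simp [h]
  · simp [(hb i a.1 a.2).resolve_left h]

omit [Finite G] in
theorem eq_of_pattern (hM : Function.Injective M)
    (hb : ∀ i, ∀ a ∈ A, M a *ᵥ b i = b i ∨ M a *ᵥ b i = -b i) (a c : A)
    (h : ∀ i, pattern M A b i a = pattern M A b i c) : a = c := by
  refine Subtype.ext (hM (Matrix.toLin'.injective (b.ext fun i => ?_)))
  rw [Matrix.toLin'_apply, Matrix.toLin'_apply, mulVec_eq hb, mulVec_eq hb, h i]

/-- An elementary abelian group is bounded by the number of sign patterns. -/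
theorem card_le_two_pow (hM : Function.Injective M)
    (hb : ∀ i, ∀ a ∈ A, M a *ᵥ b i = b i ∨ M a *ᵥ b i = -b i) :
    Nat.card A ≤ 2 ^ (Finset.univ.image (pattern M A b)).card := by
  classical
  let f : A → ((Finset.univ.image (pattern M A b)) → Bool) := fun a c => c.1 a
  have hf : Function.Injective f := fun a c h => eq_of_pattern hM hb a c fun i =>
    congrFun h ⟨_, Finset.mem_image_of_mem _ (Finset.mem_univ i)⟩
  have h := Nat.card_le_card_of_injective f hf
  rwa [Nat.card_fun, Nat.card_eq_fintype_card (α := Bool), Fintype.card_bool,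
    Nat.card_eq_finsetCard] at h

omit [Finite G] in
theorem prod_sign_eq_one (hb : ∀ i, ∀ a ∈ A, M a *ᵥ b i = b i ∨ M a *ᵥ b i = -b i)
    (hdet : ∀ a ∈ A, (M a).det = 1) (a : A) :
    ∏ i, (if pattern M A b i a then (1 : F) else -1) = 1 := by
  rw [← det_eq_prod (M a.1) b _ (mulVec_eq hb a), hdet a.1 a.2]

/-- With determinant one, a pattern occurring once is determined by the others. -/
theorem card_le_two_pow_pred (h2 : (2 : F) ≠ 0) (hM : Function.Injective M)
    (hb : ∀ i, ∀ a ∈ A, M a *ᵥ b i = b i ∨ M a *ᵥ b i = -b i) (hdet : ∀ a ∈ A, (M a).det = 1)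
    (i₀ : ι) (hi₀ : ∀ j, pattern M A b j = pattern M A b i₀ → j = i₀) :
    Nat.card A ≤ 2 ^ ((Finset.univ.image (pattern M A b)).card - 1) := by
  classical
  set T := (Finset.univ.image (pattern M A b)).erase (pattern M A b i₀) with hT
  let f : A → (T → Bool) := fun a c => c.1 a
  have hne : (1 : F) ≠ -1 := fun h => h2 (by linear_combination h)
  have hf : Function.Injective f := by
    intro a c h
    have hoff : ∀ i, i ≠ i₀ → pattern M A b i a = pattern M A b i c := fun i hi =>
      congrFun h ⟨_, Finset.mem_erase.2 ⟨fun e => hi (hi₀ i e),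
        Finset.mem_image_of_mem _ (Finset.mem_univ i)⟩⟩
    refine eq_of_pattern hM hb a c fun i => ?_
    by_cases hi : i = i₀
    · subst hi
      have h1 := prod_sign_eq_one hb hdet a
      have h2' := prod_sign_eq_one hb hdet c
      rw [← Finset.mul_prod_erase _ _ (Finset.mem_univ i)] at h1 h2'
      have he' : ∏ j ∈ Finset.univ.erase i, (if pattern M A b j a then (1 : F) else -1) =
          ∏ j ∈ Finset.univ.erase i, (if pattern M A b j c then (1 : F) else -1) :=
        Finset.prod_congr rfl fun j hj => by rw [hoff j (Finset.ne_of_mem_erase hj)]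
      rw [he'] at h1
      have hne0 : ∏ j ∈ Finset.univ.erase i, (if pattern M A b j c then (1 : F) else -1) ≠ 0 :=
        Finset.prod_ne_zero_iff.2 fun j _ => by split_ifs <;> simp
      have h3 := mul_right_cancel₀ hne0 (h1.trans h2'.symm)
      cases ha : pattern M A b i a <;> cases hc : pattern M A b i c <;> simp_all
    · exact hoff i hi
  have h := Nat.card_le_card_of_injective f hf
  rw [Nat.card_fun, Nat.card_eq_fintype_card (α := Bool), Fintype.card_bool,
    Nat.card_eq_finsetCard] at h
  rwa [hT, Finset.card_erase_of_mem (Finset.mem_image_of_mem _ (Finset.mem_univ i₀))] at h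

omit [Finite G] in
theorem exists_single {β : Type*} [DecidableEq β] (s : ι → β)
    (h : Fintype.card ι < 2 * (Finset.univ.image s).card) :
    ∃ i₀, ∀ j, s j = s i₀ → j = i₀ := by
  classical
  by_contra hcon
  push Not at hcon
  have h2 : (Finset.univ : Finset ι).card =
      ∑ c ∈ Finset.univ.image s, (Finset.univ.filter fun i => s i = c).card :=
    Finset.card_eq_sum_card_image s _
  have h3 : ∑ _c ∈ Finset.univ.image s, 2 ≤
      ∑ c ∈ Finset.univ.image s, (Finset.univ.filter fun i => s i = c).card := by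
    refine Finset.sum_le_sum fun c hc => ?_
    obtain ⟨i, -, rfl⟩ := Finset.mem_image.1 hc
    obtain ⟨j, hj, hji⟩ := hcon i
    exact Finset.one_lt_card.2 ⟨j, by simp [hj], i, by simp, hji⟩
  rw [← h2, Finset.sum_const, smul_eq_mul, Finset.card_univ] at h3
  omega

end Classes

/-- An elementary abelian 2-subgroup of `GL_n` has order at most `2 ^ n`. -/
theorem card_le_dim [Finite G] (h2 : (2 : F) ≠ 0) (M : G →* Matrix ι ι F) (A : Subgroup G)
    (hM : Function.Injective M) (hc : IsMulCommutative A) (he : ∀ a ∈ A, a ^ 2 = 1) :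
    Nat.card A ≤ 2 ^ Fintype.card ι := by
  classical
  obtain ⟨b, hb⟩ := exists_eigenbasis h2 M A hc he
  exact (card_le_two_pow hM hb).trans (Nat.pow_le_pow_right two_pos
    (Finset.card_image_le.trans_eq Finset.card_univ))

/-- An elementary abelian 2-subgroup of `SL_n` has order at most `2 ^ (n - 1)`. -/
theorem card_le_dim_pred [Finite G] [Nonempty ι] (h2 : (2 : F) ≠ 0) (M : G →* Matrix ι ι F)
    (A : Subgroup G) (hM : Function.Injective M) (hc : IsMulCommutative A)
    (he : ∀ a ∈ A, a ^ 2 = 1) (hdet : ∀ a ∈ A, (M a).det = 1) :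
    Nat.card A ≤ 2 ^ (Fintype.card ι - 1) := by
  classical
  obtain ⟨b, hb⟩ := exists_eigenbasis h2 M A hc he
  rcases Nat.lt_or_ge (Finset.univ.image (pattern M A b)).card (Fintype.card ι) with h | h
  · exact (card_le_two_pow hM hb).trans (Nat.pow_le_pow_right two_pos (by omega))
  · obtain ⟨i₀, hi₀⟩ := exists_single (pattern M A b)
      (by have := Fintype.card_pos (α := ι); omega)
    exact (card_le_two_pow_pred h2 hM hb hdet i₀ hi₀).trans (Nat.pow_le_pow_right two_pos
      (Nat.sub_le_sub_right (Finset.card_image_le.trans_eq Finset.card_univ) 1))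

/-- Preserving a nondegenerate alternating form halves the number of patterns. -/
theorem card_le_half [Finite G] (h2 : (2 : F) ≠ 0) (M : G →* Matrix ι ι F) (A : Subgroup G)
    (hM : Function.Injective M) (hc : IsMulCommutative A) (he : ∀ a ∈ A, a ^ 2 = 1)
    (B : LinearMap.BilinForm F (ι → F)) (halt : ∀ x, B x x = 0)
    (hsep : ∀ x, (∀ y, B x y = 0) → x = 0)
    (hinv : ∀ a ∈ A, ∀ u v, B (M a *ᵥ u) (M a *ᵥ v) = B u v) :
    Nat.card A ≤ 2 ^ (Fintype.card ι / 2) := by
  classical
  obtain ⟨b, hb⟩ := exists_eigenbasis h2 M A hc he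
  refine (card_le_two_pow hM hb).trans (Nat.pow_le_pow_right two_pos ?_)
  by_contra hlt
  obtain ⟨i₀, hi₀⟩ := exists_single (pattern M A b) (by omega)
  refine b.ne_zero i₀ (hsep _ ?_)
  have hz : B (b i₀) = 0 := b.ext fun j => by
    rcases eq_or_ne j i₀ with rfl | hne
    · exact halt _
    · obtain ⟨a, ha⟩ : ∃ a : A, pattern M A b i₀ a ≠ pattern M A b j a := by
        by_contra hcon
        push Not at hcon
        exact hne (hi₀ j (funext fun a => (hcon a).symm))
      have h1 := hinv a.1 a.2 (b i₀) (b j)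
      rw [mulVec_eq hb, mulVec_eq hb] at h1
      show B (b i₀) (b j) = 0
      have h5 : (if pattern M A b i₀ a then (1 : F) else -1) *
          (if pattern M A b j a then (1 : F) else -1) = -1 := by
        cases hi : pattern M A b i₀ a <;> cases hj : pattern M A b j a <;> simp_all
      simp only [map_smul, LinearMap.smul_apply, smul_eq_mul] at h1
      have h4 : (2 : F) * B (b i₀) (b j) = 0 := by
        linear_combination B (b i₀) (b j) * h5 - h1
      exact (mul_eq_zero.1 h4).resolve_left h2
  intro y
  rw [hz, LinearMap.zero_apply]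

end CfsgLib.TwoRank
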